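import Groth.Agent.CohDev.Coh
import Groth.Agent.PerfTri.Bounded
import Groth.Agent.QCoh.Qcqs
import Groth.Agent.Omega.Stalks
import Mathlib.RingTheory.Flat.TorsionFree
import Mathlib.RingTheory.Flat.Localization
import Mathlib.RingTheory.DiscreteValuationRing.Basic

/-!
# Schematic closure of a quotient sheaf over a discrete valuation ring
-/

set_option autoImplicit false
set_option linter.style.haveILetI false
set_option backward.isDefEq.respectTransparency false
set_option backward.isDefEq.respectTransparency.types false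

universe u

open CategoryTheory CategoryTheory.Limits AlgebraicGeometry TopologicalSpace Opposite
open Groth.Agent.PullStalk.Sky Groth.Agent.PullStalk.Exact

noncomputable section

namespace Groth.Agent.DVRExt

variable {X Y : Scheme.{u}}

/-- Pullback along an open immersion preserves monomorphisms. -/
theorem mono_pullback_map (j : Y ⟶ X) [IsOpenImmersion j] {M N : X.Modules} (φ : M ⟶ N) [Mono φ] :
    Mono ((Scheme.Modules.pullback j).map φ) := by
  haveI : Mono ((Scheme.Modules.restrictFunctor j).map φ) := by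
    refine Preadditive.mono_of_cancel_zero _ fun {Z} g hg => ?_
    ext U x
    refine QCoh.app_injective_of_mono φ (j ''ᵁ U) ?_
    refine Eq.trans ?_ (map_zero (φ.app (j ''ᵁ U)).hom).symm
    exact congrArg (fun χ : Z ⟶ _ => Scheme.Modules.Hom.app χ U x) hg
  rw [show (Scheme.Modules.pullback j).map φ = (Scheme.Modules.restrictFunctorIsoPullback j).inv.app M ≫
    (Scheme.Modules.restrictFunctor j).map φ ≫ (Scheme.Modules.restrictFunctorIsoPullback j).hom.app N by simp]
  infer_instance

/-- The counit for an open immersion is an isomorphism. -/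
theorem isIso_counit (j : Y ⟶ X) [IsOpenImmersion j] (M : Y.Modules) :
    IsIso ((Scheme.Modules.pullbackPushforwardAdjunction j).counit.app M) := by
  haveI := Adjunction.counit_isIso_of_R_fully_faithful (Scheme.Modules.pullbackPushforwardAdjunction j)
  infer_instance

variable {R K : Type u} [CommRing R] [IsDomain R] [IsBezout R] [Field K] [Algebra R K] [IsFractionRing R K]
  (π : X ⟶ Spec (CommRingCat.of R)) (j : Y ⟶ X) (πK : Y ⟶ Spec (CommRingCat.of K))

/-- A module which injects on stalks into a pushforward from the generic fibre is flat over `R`. -/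
theorem isFlatOver_of_mono (w : j ≫ π = πK ≫ Spec.map (CommRingCat.ofHom (algebraMap R K)))
    {F' : X.Modules} {G : Y.Modules} (ι : F' ⟶ (Scheme.Modules.pushforward j).obj G) [Mono ι] :
    FlatMod.IsFlatOver π F' := by
  intro x
  let S := Spec (CommRingCat.of R)
  let top := isAffineOpen_top S
  let e : R ≃+* Γ(S, ⊤) := (Scheme.ΓSpecIso (CommRingCat.of R)).symm.commRingCatIsoToRingEquiv
  haveI : IsDomain Γ(S, ⊤) := e.symm.toMulEquiv.isDomain R
  haveI : IsBezout Γ(S, ⊤) := Function.Surjective.isBezout e.toRingHom e.surjective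
  letI := FlatMod.moduleStalkOver π F' x
  letI := TopCat.Presheaf.algebra_section_stalk S.presheaf (⟨π x, trivial⟩ : (⊤ : S.Opens))
  haveI := top.isLocalization_stalk ⟨π x, trivial⟩
  letI : Module Γ(S, ⊤) (F'.presheaf.stalk x) :=
    Module.compHom _ (algebraMap Γ(S, ⊤) (S.presheaf.stalk (π x)))
  haveI : IsScalarTower Γ(S, ⊤) (S.presheaf.stalk (π x)) (F'.presheaf.stalk x) :=
    IsScalarTower.of_algebraMap_smul fun _ _ => rfl
  show Module.Flat (S.presheaf.stalk (π x)) (F'.presheaf.stalk x)
  rw [Module.flat_iff_of_isLocalization (R := Γ(S, ⊤))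
    (S := S.presheaf.stalk (π x)) (top.primeIdealOf ⟨π x, trivial⟩).asIdeal.primeCompl,
    Module.Flat.flat_iff_torsion_eq_bot_of_isBezout]
  refine eq_bot_iff.2 fun t ⟨⟨a, ha⟩, hat⟩ => ?_
  have ha0 : a ≠ 0 := nonZeroDivisors.ne_zero ha
  let ρ : Γ(X, ⊤) := π.appTop a
  have hact : ∀ (M : X.Modules) (m : M.presheaf.stalk x),
      (π.stalkMap x (S.presheaf.germ ⊤ (π x) trivial a)) • m = X.presheaf.germ ⊤ x trivial ρ • m := fun M m => by
    rw [Scheme.Hom.germ_stalkMap_apply]
    rfl
  -- `ρ` acts invertibly on the generic fibre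
  have hunit : IsUnit (j.appTop ρ) := by
    have h1 : IsUnit ((Spec.map (CommRingCat.ofHom (algebraMap R K))).appTop a) := by
      obtain ⟨r, rfl⟩ := e.surjective a
      have h3 := congr($(Scheme.ΓSpecIso_inv_naturality (CommRingCat.ofHom (algebraMap R K))) r)
      show IsUnit ((Spec.map (CommRingCat.ofHom (algebraMap R K))).appTop ((Scheme.ΓSpecIso (CommRingCat.of R)).inv r))
      rw [← CommRingCat.comp_apply, ← h3]
      refine IsUnit.map (Scheme.ΓSpecIso (CommRingCat.of K)).inv.hom ?_
      refine (isUnit_iff_ne_zero (G₀ := K)).2 ?_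
      intro h0
      exact ha0 (by rw [(IsFractionRing.to_map_eq_zero_iff (K := K)).1 h0, map_zero])
    have h2 := congrArg (fun f : Y ⟶ S => f.appTop a) w
    simp only [Scheme.Hom.comp_appTop] at h2
    exact (h2.symm ▸ h1.map πK.appTop.hom : IsUnit (j.appTop (π.appTop a)))
  have hzero : X.presheaf.germ ⊤ x trivial ρ • stalkLin ι x t = 0 := by
    rw [← map_smul, ← hact]
    exact (congrArg _ (show (π.stalkMap x (S.presheaf.germ ⊤ (π x) trivial a)) • t = 0 from hat)).trans (map_zero _)
  refine Submodule.mem_bot _ |>.2 (Omega.Stalks.stalkLin_injective_of_mono ι x ?_)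
  rw [map_zero]
  obtain ⟨W, hxW, m, hm⟩ := exists_germM_eq ((Scheme.Modules.pushforward j).obj G) x (stalkLin ι x t)
  rw [← hm] at hzero ⊢
  have h4 : germM ((Scheme.Modules.pushforward j).obj G) W x hxW (QCoh.rres (le_top : W ≤ ⊤) ρ • m) = 0 := by
    rw [germM_smul, QCoh.rres, TopCat.Presheaf.germ_res_apply']
    exact hzero
  obtain ⟨W', hxW', i₁, i₂, h5⟩ := ((Scheme.Modules.pushforward j).obj G).presheaf.germ_eq x hxW hxW _ 0
    (h4.trans (map_zero (((Scheme.Modules.pushforward j).obj G).presheaf.germ W x hxW).hom).symm)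
  have h6 : QCoh.rres (le_top : W' ≤ ⊤) ρ • QCoh.res ((Scheme.Modules.pushforward j).obj G) i₁.le m = 0 := by
    rw [← QCoh.rres_rres (le_top : W ≤ ⊤) i₁.le, ← QCoh.res_smul]
    exact h5.trans (map_zero (((Scheme.Modules.pushforward j).obj G).presheaf.map i₂.op).hom)
  have h7 : QCoh.res ((Scheme.Modules.pushforward j).obj G) i₁.le m = 0 := by
    have hu : IsUnit (j.app W' (QCoh.rres (le_top : W' ≤ ⊤) ρ)) := by
      have := congr($(j.naturality (homOfLE (le_top : W' ≤ ⊤)).op) ρ)
      rw [CommRingCat.comp_apply, CommRingCat.comp_apply] at this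
      rw [QCoh.rres, this]
      exact hunit.map _
    obtain ⟨v, hv⟩ := hu
    obtain ⟨m', hm'⟩ : ∃ m' : Γ(G, j ⁻¹ᵁ W'), QCoh.res ((Scheme.Modules.pushforward j).obj G) i₁.le m = m' := ⟨_, rfl⟩
    rw [hm'] at h6 ⊢
    have h8 : (v : Γ(Y, j ⁻¹ᵁ W')) • m' = 0 := by
      rw [hv]; exact h6
    have h9 := congrArg (fun z : Γ(G, j ⁻¹ᵁ W') => (↑v⁻¹ : Γ(Y, j ⁻¹ᵁ W')) • z) h8
    rw [smul_smul, v.inv_mul, one_smul, smul_zero] at h9
    exact h9
  show germM _ W x hxW m = 0
  rw [germM, ← TopCat.Presheaf.germ_res_apply _ (homOfLE i₁.le) x hxW' m,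
    show ((Scheme.Modules.pushforward j).obj G).presheaf.map (homOfLE i₁.le).op m = 0 from h7, map_zero]

/-- Quotients of free modules on the generic fibre extend flatly. -/
theorem exists_extension [IsLocallyNoetherian X] [IsOpenImmersion j] [QuasiCompact j]
    (w : j ≫ π = πK ≫ Spec.map (CommRingCat.ofHom (algebraMap R K)))
    (N : ℕ) (F : Y.Modules) (hF : Coh.IsCoh F) (q : FlatMod.freeMod Y N ⟶ F) [Epi q] :
    ∃ (F' : X.Modules) (q' : FlatMod.freeMod X N ⟶ F'), Coh.IsCoh F' ∧ Epi q' ∧
      FlatMod.IsFlatOver π F' ∧ Nonempty ((Scheme.Modules.pullback j).obj F' ≅ F) := by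
  let adj := Scheme.Modules.pullbackPushforwardAdjunction j
  let e : (Scheme.Modules.pullback j).obj (FlatMod.freeMod X N) ≅ FlatMod.freeMod Y N :=
    PreservesCoproduct.iso (Scheme.Modules.pullback j) _ ≪≫ Sigma.mapIso fun _ => QCoh.pullbackUnitIso j
  let α : FlatMod.freeMod X N ⟶ (Scheme.Modules.pushforward j).obj F := adj.homEquiv _ _ (e.hom ≫ q)
  haveI : F.IsQuasicoherent := hF.1
  refine ⟨Abelian.image α, Abelian.factorThruImage α,
    CohDev.isCoh_image α (PerfTri.Bounded.isCoh_freeMod N) (QCoh.isQuasicoherent_pushforward j F),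
    inferInstance, isFlatOver_of_mono π j πK w (Abelian.image.ι α), ?_⟩
  haveI := isIso_counit j F
  let θ := (Scheme.Modules.pullback j).map (Abelian.image.ι α) ≫ adj.counit.app F
  haveI : Mono θ := by
    haveI := mono_pullback_map j (Abelian.image.ι α)
    exact mono_comp _ _
  haveI : Epi θ := by
    have : (Scheme.Modules.pullback j).map (Abelian.factorThruImage α) ≫ θ = e.hom ≫ q := by
      rw [← Category.assoc, ← Functor.map_comp, Abelian.image.fac]
      exact (Adjunction.homEquiv_counit adj _ _ α).symm.trans (Equiv.symm_apply_apply _ _)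
    exact epi_of_epi_fac this
  haveI : IsIso θ := isIso_of_mono_of_epi θ
  exact ⟨asIso θ⟩

end Groth.Agent.DVRExt
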